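import Mathlib
import Cfsg.Agent.Lib.Invol.Isolated
import Cfsg.Agent.Lib.Techniques.SylowIn

/-!
# Sign of the regular representation and subgroups of index two
-/

set_option linter.unusedSectionVars false

namespace Cfsg.Agent.Lib.Invol

open Cfsg.Agent.Lib.Techniques

variable {G : Type*} [Group G]

lemma mulLeft_pow_apply (y : G) (k : ℕ) (a : G) : ((Equiv.mulLeft y) ^ k) a = y ^ k * a := by
  induction k generalizing a with
  | zero => simp
  | succ k ih =>
    rw [pow_succ, Equiv.Perm.mul_apply, ih, Equiv.coe_mulLeft, pow_succ, mul_assoc]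

lemma mem_cycleType_mulLeft [Fintype G] [DecidableEq G] (y : G) {m : ℕ}
    (hm : m ∈ (Equiv.mulLeft y : Equiv.Perm G).cycleType) : m = orderOf y := by
  apply Nat.dvd_antisymm
  · have h1 := Equiv.Perm.dvd_of_mem_cycleType hm
    refine h1.trans (orderOf_dvd_of_pow_eq_one ?_)
    ext a
    rw [mulLeft_pow_apply, pow_orderOf_eq_one, one_mul]; rfl
  · rw [Equiv.Perm.mem_cycleType_iff] at hm
    obtain ⟨c, τ, hσ, hd, hc, hcard⟩ := hm
    obtain ⟨a, ha⟩ : ∃ a, c a ≠ a := by
      by_contra h
      push Not at h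
      exact hc.ne_one (Equiv.ext h)
    have hτ : τ a = a := by
      rcases hd a with h | h
      · exact absurd h ha
      · exact h
    have hcm : c ^ m = 1 := by
      rw [← hcard, ← hc.orderOf, pow_orderOf_eq_one]
    have hpow : (Equiv.mulLeft y : Equiv.Perm G) ^ m = c ^ m * τ ^ m := by
      rw [hσ, hd.commute.mul_pow]
    have hfix : (τ ^ m) a = a := by
      exact Function.IsFixedPt.perm_pow hτ m
    have h2 : y ^ m * a = a := by
      rw [← mulLeft_pow_apply, hpow, hcm, one_mul, hfix]
    apply orderOf_dvd_of_pow_eq_one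
    exact mul_eq_right.1 h2

lemma cycleType_mulLeft_sum [Fintype G] [DecidableEq G] (y : G) (hy : y ≠ 1) :
    (Equiv.mulLeft y : Equiv.Perm G).cycleType.sum = Fintype.card G := by
  rw [Equiv.Perm.sum_cycleType]
  have : (Equiv.mulLeft y : Equiv.Perm G).support = Finset.univ := by
    ext a
    simp only [Equiv.Perm.mem_support, Finset.mem_univ, iff_true, Equiv.coe_mulLeft]
    intro h
    exact hy (mul_eq_right.1 h)
  rw [this, Finset.card_univ]

lemma sign_mulLeft [Fintype G] [DecidableEq G] (y : G) (hy : y ≠ 1) :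
    Equiv.Perm.sign (Equiv.mulLeft y : Equiv.Perm G) =
      (-1) ^ (Fintype.card G + Fintype.card G / orderOf y) := by
  rw [Equiv.Perm.sign_of_cycleType, cycleType_mulLeft_sum y hy]
  congr 2
  have h1 : (Equiv.mulLeft y : Equiv.Perm G).cycleType =
      Multiset.replicate (Multiset.card (Equiv.mulLeft y : Equiv.Perm G).cycleType) (orderOf y) :=
    Multiset.eq_replicate_card.2 (fun b hb => mem_cycleType_mulLeft y hb)
  have h2 := cycleType_mulLeft_sum y hy
  rw [h1, Multiset.sum_replicate, smul_eq_mul] at h2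
  have h3 : 0 < orderOf y := orderOf_pos y
  rw [← h2, Nat.mul_div_cancel _ h3]

/-- An element of even order `n` with `|G| / n` odd produces a subgroup of index two. -/
theorem exists_index_two_of_element [Finite G] (y : G) (hy : Even (orderOf y))
    (hodd : Odd (Nat.card G / orderOf y)) : ∃ H : Subgroup G, H.index = 2 := by
  classical
  haveI := Fintype.ofFinite G
  have hy1 : y ≠ 1 := by
    rintro rfl
    simp at hy
  have hs : Equiv.Perm.sign (Equiv.mulLeft y : Equiv.Perm G) = -1 := by
    rw [sign_mulLeft y hy1, ← Nat.card_eq_fintype_card]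
    have h1 : Even (Nat.card G) := by
      have : orderOf y ∣ Nat.card G := orderOf_dvd_natCard y
      exact hy.trans_dvd this
    exact (h1.add_odd hodd).neg_one_pow
  let φ : G →* ℤˣ := (Equiv.Perm.sign).comp (MulAction.toPermHom G G)
  have hφ : φ y = -1 := by
    rw [← hs]
    show Equiv.Perm.sign (MulAction.toPerm y) = _
    congr 1
  refine ⟨φ.ker, ?_⟩
  rw [Subgroup.index_eq_two_iff]
  refine ⟨y, fun b => ?_⟩
  simp only [MonoidHom.mem_ker, map_mul, hφ]
  rcases Int.units_eq_one_or (φ b) with h | h
  · rw [h]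
    simp
  · rw [h]
    simp

end Cfsg.Agent.Lib.Invol
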